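import Cfsg.Agent.Lib.Fi23Solvable.Defs

/-!
# A maximal solvable subgroup of Fi23: the chain and the closures
-/

set_option autoImplicit false
set_option linter.all false
set_option maxRecDepth 100000
set_option Elab.async false

noncomputable section

namespace Cfsg.Agent.Fi23Solvable

open Cfsg.Agent.CosetCert Cfsg.Agent.InvChar.Coset
open TreePerm Fi23G Fi23Out

theorem level1 : levelOK 1 = true := by decide +kernel

theorem level2 : levelOK 2 = true := by decide +kernel

theorem level3 : levelOK 3 = true := by decide +kernel

theorem level4 : levelOK 4 = true := by decide +kernel

theorem level5 : levelOK 5 = true := by decide +kernel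

theorem list_ok : (nodupB listO && allOK (fun o => Nat.blt o 31671 && inO o) listO) = true := by decide +kernel

theorem list_length : listO.length = 324 := by decide +kernel

theorem reach_length : (reach 1).length = 27 ∧ (reach 2).length = 288 ∧ (reach 3).length = 18 ∧
    (reach 4).length = 8 ∧ (reach 5).length = 9 := by decide +kernel

theorem datoms_ok : allOK (fun d => pvalid d.1 d.2 && inO d.2) datoms = true := by decide +kernel

theorem preds_ok : (predsOK pat1 && (predsOK pat2 && (predsOK pat3 && (predsOK pat4 && (predsOK pat5 &&
    (predsOK patP && predsOK patG)))))) = true := by decide +kernel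

theorem close_five : closeFive = true := by decide +kernel

theorem close_A : closeA = true := by decide +kernel

theorem close_B : closeB' = true := by decide +kernel

theorem close_C : closeC = true := by decide +kernel

theorem pick_ok : pickOK = true := by decide +kernel

theorem pick_self : (inO 5259 && predB 5259 patP && predB (ptG 0) patG && inO 0) = true := by decide +kernel

theorem witnesses : (pvalid e2 2 && (pvalid e5 5 && (Nat.beq (lab 2) 1 && (Nat.beq (lab 5) 2 &&
    (Nat.blt (lab wit2) 2 && (Nat.beq (lab (seqN permList (dW e2) wit2)) 2 &&
    ((Nat.beq (lab wit5) 0 || Nat.beq (lab wit5) 2) && (Nat.beq (lab (seqN permList (dW e5) wit5)) 1 &&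
    (inO wit0 && !(inO (seqN permList (dW e2) wit0))))))))))) = true := by decide +kernel

end Cfsg.Agent.Fi23Solvable
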