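import Cfsg.Agent.Lib.Fi23Solvable.Defs

/-!
# A maximal solvable subgroup of Fi23: the derived series, third part
-/

set_option autoImplicit false
set_option linter.all false
set_option maxRecDepth 100000
set_option Elab.async false

noncomputable section

namespace Cfsg.Agent.Fi23Solvable

open Cfsg.Agent.CosetCert Cfsg.Agent.InvChar.Coset
open TreePerm Fi23G Fi23Out

theorem der_ok3 : derOK 3 = true := by decide +kernel

theorem der_ok4 : derOK 4 = true := by decide +kernel

theorem der_ok5 : derOK 5 = true := by decide +kernel

theorem der_ok6 : derOK 6 = true := by decide +kernel

theorem der_ok7 : derOK 7 = true := by decide +kernel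

theorem der_ok8 : derOK 8 = true := by decide +kernel

theorem der_moved : (Nat.beq (der 9).length 1 && !(fixB (getW (derW 9) 0) 884)) = true := by decide +kernel

end Cfsg.Agent.Fi23Solvable
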