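import Cfsg.Agent.Lib.Fi23Solvable.Defs

/-!
# A maximal solvable subgroup of Fi23: generating words
-/

set_option autoImplicit false
set_option linter.all false
set_option maxRecDepth 100000
set_option Elab.async false

noncomputable section

namespace Cfsg.Agent.Fi23Solvable

open Cfsg.Agent.CosetCert Cfsg.Agent.InvChar.Coset
open TreePerm Fi23G Fi23Out

theorem keep0 : allOK keepsO (keepW.take 15) = true := by decide +kernel

end Cfsg.Agent.Fi23Solvable
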