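import Cfsg.Agent.InvChar.Coset.Fi23OutDefs
import Cfsg.Agent.Lib.Fi23Solvable.Data
import Cfsg.Agent.Lib.Fi23Solvable.DataForest

/-!
# A maximal solvable subgroup of Fi23: the checks

Everything here is evaluated by the kernel on numbers and lists.
-/

set_option autoImplicit false
set_option linter.all false

noncomputable section

namespace Cfsg.Agent.Fi23Solvable

open Cfsg.Agent.CosetCert Cfsg.Agent.InvChar.Coset
open TreePerm Fi23G Fi23Out

/-- An entry of a list of words. -/
def getW : List (List ℕ) → ℕ → List ℕ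
  | [], _ => []
  | a :: _, 0 => a
  | _ :: l, i + 1 => getW l i

/-- The class of a point: `0` for the invariant set. -/
def lab (c : ℕ) : ℕ := Nat.land (rd gdT c) 3

def fgen (c : ℕ) : ℕ := Nat.land (Nat.shiftRight (rd gdT c) 2) 15

def dep (c : ℕ) : ℕ := Nat.shiftRight (rd gdT c) 6

def parOf (c : ℕ) : ℕ := rd parT c

def rootOf (l : ℕ) : ℕ := rootAt [0, 2, 5] l

def inO (c : ℕ) : Bool := Nat.beq (lab c) 0

def seedOK (s : ℕ) : Bool := Nat.blt s 10 || Nat.beq s 17

def seedPt (s : ℕ) : ℕ := cond (Nat.beq s 17) 0 (ptG s)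

/-- A path from the point of a seed. -/
def pvalid (e : List ℕ × ℕ) (f : ℕ) : Bool :=
  smallOK e.1 && (seedOK e.2 && Nat.beq (seqN permList e.1 (seedPt e.2)) f)

/-- The word of the transposition of the point of a path. -/
def dW (e : List ℕ × ℕ) : List ℕ := e.1.reverse ++ e.2 :: e.1

def fixB (w : List ℕ) (c : ℕ) : Bool := Nat.beq (seqN permList w c) c

def nodupB : List ℕ → Bool
  | [] => true
  | x :: l => !(memB x l) && nodupB l

/-- A word preserves the invariant set. -/
def keepsO (w : List ℕ) : Bool := letOK w && allOK (fun o => inO (seqN permList w o)) listO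

def forestOK (c : ℕ) : Bool :=
  Nat.blt (lab c) 3 &&
    match dep c with
    | 0 => Nat.beq (rootOf (lab c)) c
    | k + 1 => Nat.blt (parOf c) 31671 && (Nat.beq (dep (parOf c)) k && (Nat.beq (lab (parOf c)) (lab c) &&
        Nat.beq (seqN permList (getW keepW (fgen c)) (parOf c)) c))

/-- The stored generating words. -/
def atomL : List (List ℕ) :=
  datoms.map (fun d => dW d.1) ++ (keepW ++ keepW.map List.reverse)

def elW : List ℕ → List ℕ
  | [] => []
  | a :: l => getW atomL a ++ elW l

def predB (c : ℕ) : List ((List ℕ × ℕ) × ℕ × Bool) → Bool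
  | [] => true
  | e :: l => eqBool e.2.2 (fixB (dW e.1) c) && predB c l

def neB (c : ℕ) : List ℕ → Bool
  | [] => true
  | b :: l => !(Nat.beq c b) && neB c l

def predsOK : List ((List ℕ × ℕ) × ℕ × Bool) → Bool
  | [] => true
  | e :: l => pvalid e.1 e.2.1 && predsOK l

/-- The points playing the part of the base point of a level. -/
def lpred : ℕ → ℕ → Bool
  | 1, c => inO c && (neB c [0] && predB c pat1)
  | 2, c => inO c && (neB c [0, 1440] && predB c pat2)
  | 3, c => inO c && (neB c [0, 1440, 558] && predB c pat3)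
  | 4, c => inO c && (neB c [0, 1440, 558, 1559] && predB c pat4)
  | 5, c => predB c pat5
  | _, _ => false

def levGens : ℕ → List (List ℕ)
  | 1 => gens1 | 2 => gens2 | 3 => gens3 | 4 => gens4 | 5 => gens5 | _ => []

def levNodes : ℕ → List (ℕ × ℕ × ℕ)
  | 1 => nodes1 | 2 => nodes2 | 3 => nodes3 | 4 => nodes4 | 5 => nodes5 | _ => []

def baseAt (s : ℕ) : ℕ := nthNat baseL s

def prior : ℕ → List ℕ
  | 1 => [0] | 2 => [0, 1440] | 3 => [0, 1440, 558] | 4 => [0, 1440, 558, 1559]
  | 5 => [0, 1440, 558, 1559, 1] | _ => []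

def reach (s : ℕ) : List ℕ := baseAt s :: (levNodes s).map Prod.fst

/-- An orbit tree. -/
def treeB (gs : List (List ℕ)) : List (ℕ × ℕ × ℕ) → List ℕ → Bool
  | [], _ => true
  | e :: l, known => memB e.2.1 known &&
      (Nat.beq (seqN permList (elW (getW gs e.2.2)) e.2.1) e.1 && treeB gs l (e.1 :: known))

def levelOK (s : ℕ) : Bool :=
  allOK (fun g => allOK (fun b => fixB (elW g) b) (prior s)) (levGens s) &&
    (treeB (levGens s) (levNodes s) [baseAt s] && (nodupB (reach s) && lpred s (baseAt s)))

/-- Closure of a fixed set under the transpositions of its points. -/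
def closeS : List ((List ℕ × ℕ) × ℕ × ℕ × ℕ) → List ℕ → (List ℕ → Bool) → Bool
  | [], known, fin => fin known
  | e :: l, known, fin => pvalid e.1 e.2.1 && (memB e.2.1 known && (memB e.2.2.1 known &&
      (Nat.beq (seqN permList (dW e.1) e.2.2.1) e.2.2.2 && closeS l (e.2.2.2 :: known) fin)))

def knownB : List ℕ := stepsA.map (fun e => e.2.2.2) ++ (5259 :: baseL)

def knownC : List ℕ := stepsB.map (fun e => e.2.2.2) ++ (ptG 0 :: knownB)

def predPts (l : List ((List ℕ × ℕ) × ℕ × Bool)) : List ℕ := l.map fun e => e.2.1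

def closeFive : Bool := closeS steps5 (prior 5) fun k => subB (predPts pat5) k

def closeA : Bool := closeS stepsA baseL fun k => subB (predPts patP) k

def closeB' : Bool := closeS stepsB knownB fun k => subB (predPts patG) k

def closeC : Bool := closeS stepsC knownC fun k => subB genPoints k

def pickOK : Bool := allOK (fun c => !(predB c patP) || Nat.beq c 5259) listO

/-- The test on every point. -/
def chainOK (c : ℕ) : Bool :=
  (!(lpred 1 c) || memB c (reach 1)) && ((!(lpred 2 c) || memB c (reach 2)) &&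
    ((!(lpred 3 c) || memB c (reach 3)) && (!(lpred 4 c) || memB c (reach 4))))

def rowOK (c : ℕ) : Bool :=
  forestOK c && (cond (inO c) (memB c listO && chainOK c) true &&
    ((!(predB c pat5) || memB c (reach 5)) && (!(predB c patG) || Nat.beq c (ptG 0))))

/-- A product of commutators of listed words. -/
def comW (P : List (List ℕ)) : List ℕ → List ℕ
  | i :: j :: r =>
    (getW P i).reverse ++ ((getW P j).reverse ++ (getW P i ++ (getW P j ++ comW P r)))
  | _ => []

def der : ℕ → List (List ℕ × List ℕ)
  | 0 => der0 | 1 => der1 | 2 => der2 | 3 => der3 | 4 => der4 | 5 => der5 | 6 => der6 | 7 => der7 | 8 => der8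
  | 9 => der9 | _ => []

def derW (l : ℕ) : List (List ℕ) := (der l).map fun e => elW e.1

def derOK (l : ℕ) : Bool :=
  allOK (fun e => allOK (fun b => Nat.beq (seqN permList (elW e.1) b) (seqN permList (comW (derW l) e.2) b)) baseL)
    (der (l + 1))

end Cfsg.Agent.Fi23Solvable
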