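import Cfsg.Agent.Lib.Fi23Solvable.Order
import Cfsg.Agent.Lib.Fi23Solvable.CheckDer0
import Cfsg.Agent.Lib.Fi23Solvable.CheckDer1
import Cfsg.Agent.Lib.Fi23Solvable.CheckDer2

/-!
# A maximal solvable subgroup of Fi23: derived length at least ten

Listed elements of each derived subgroup are products of commutators of those before.
-/

set_option autoImplicit false
set_option linter.all false
set_option maxRecDepth 100000

noncomputable section

namespace Cfsg.Agent.Fi23Solvable

open Cfsg.Agent.CosetCert Cfsg.Agent.InvChar.Coset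
open TreePerm Fi23G Fi23Out
open scoped commutatorElement

attribute [local irreducible] seqN rd

/-- A derived subgroup, in the whole group. -/
def DD (n : ℕ) : Subgroup GG := (derivedSeries H n).map H.subtype

theorem DD_le (n : ℕ) : DD n ≤ H := Subgroup.map_subtype_le _

theorem DD_succ (n : ℕ) : DD (n + 1) = ⁅DD n, DD n⁆ := by
  rw [DD, derivedSeries_succ, Subgroup.map_commutator]
  rfl

theorem comW_spec {n : ℕ} {P : List (List ℕ)} (hP : ∀ i, letOK (getW P i) = true ∧ gx (getW P i) ∈ DD n) :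
    ∀ a : List ℕ, letOK (comW P a) = true ∧ gx (comW P a) ∈ DD (n + 1)
  | [] => ⟨rfl, by rw [show comW P [] = [] from rfl, gx_nil]; exact Subgroup.one_mem _⟩
  | [a] => ⟨rfl, by rw [show comW P [a] = [] from rfl, gx_nil]; exact Subgroup.one_mem _⟩
  | i :: j :: r => by
    obtain ⟨hl, hm⟩ := comW_spec hP r
    refine ⟨letOK_append (letOK_reverse (hP i).1) (letOK_append (letOK_reverse (hP j).1)
      (letOK_append (hP i).1 (letOK_append (hP j).1 hl))), ?_⟩
    have hc : ⁅gx (getW P j), gx (getW P i)⁆ ∈ DD (n + 1) := by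
      rw [DD_succ]; exact Subgroup.commutator_mem_commutator (hP j).2 (hP i).2
    have e : gx (comW P (i :: j :: r)) = gx (comW P r) * ⁅gx (getW P j), gx (getW P i)⁆ := by
      rw [comW, gx_append, gx_append, gx_append, gx_append, gx_reverse, gx_reverse, commutatorElement_def]
      group
    rw [e]
    exact Subgroup.mul_mem _ hm hc

theorem derW_getW {n : ℕ} (h : ∀ w ∈ derW n, gx w ∈ DD n) (i : ℕ) :
    letOK (getW (derW n) i) = true ∧ gx (getW (derW n) i) ∈ DD n := by
  rcases getW_cases (derW n) i with h0 | h0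
  · rw [h0]; exact ⟨rfl, by rw [gx_nil]; exact Subgroup.one_mem _⟩
  · refine ⟨?_, h _ h0⟩
    obtain ⟨e, -, he⟩ := List.mem_map.mp h0
    rw [← he]
    exact (elW_good _).1

theorem der_step {n : ℕ} (hok : derOK n = true) (h : ∀ w ∈ derW n, gx w ∈ DD n) :
    ∀ w ∈ derW (n + 1), gx w ∈ DD (n + 1) := by
  intro w hw
  obtain ⟨e, he, rfl⟩ := List.mem_map.mp hw
  obtain ⟨hl, hm⟩ := comW_spec (derW_getW h) e.2
  have hb := allOK_iff.mp hok e he
  have heq : (gx (comW (derW n) e.2))⁻¹ * gx (elW e.1) = 1 := by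
    refine eq_one_of_fix_base (H.mul_mem (H.inv_mem (DD_le _ hm)) (elW_good _).2) fun x hx => ⟨base_lt x hx, ?_⟩
    rw [map_mul, Equiv.Perm.mul_apply, map_inv, Equiv.Perm.inv_eq_iff_eq]
    refine Fin.ext ?_
    rw [gx_apply (elW_good _).1, gx_apply hl]
    exact Nat.eq_of_beq_eq_true (allOK_iff.mp hb x hx)
  rw [inv_mul_eq_one] at heq
  rw [← heq]
  exact hm

theorem der_nine : ∀ w ∈ derW 9, gx w ∈ DD 9 := by
  have h0 : ∀ w ∈ derW 0, gx w ∈ DD 0 := fun w hw => by
    obtain ⟨e, -, rfl⟩ := List.mem_map.mp hw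
    exact ⟨⟨_, (elW_good e.1).2⟩, Subgroup.mem_top _, rfl⟩
  exact der_step der_ok8 (der_step der_ok7 (der_step der_ok6 (der_step der_ok5 (der_step der_ok4
    (der_step der_ok3 (der_step der_ok2 (der_step der_ok1 (der_step der_ok0 h0))))))))

theorem derived_nine_ne_bot : derivedSeries H 9 ≠ ⊥ := by
  intro hb
  have hm := der_moved
  simp only [Bool.and_eq_true, Bool.not_eq_true'] at hm
  have hg : gx (getW (derW 9) 0) ∈ DD 9 := (derW_getW der_nine 0).2
  rw [DD, hb, Subgroup.map_bot, Subgroup.mem_bot] at hg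
  have hv := gx_apply (derW_getW der_nine 0).1 (⟨884, by norm_num⟩ : Fin 31671)
  rw [hg, map_one] at hv
  have hf : fixB (getW (derW 9) 0) 884 = true := by
    rw [fixB, Nat.beq_eq]; exact hv.symm
  rw [hf] at hm
  exact Bool.noConfusion hm.2

theorem derived_ten_ne : derivedSeries H 10 ≠ derivedSeries H 9 := by
  intro he
  haveI := solvable_H
  obtain ⟨n, hn⟩ := (Group.isSolvable_def H).mp solvable_H
  have hstab : ∀ k, derivedSeries H (9 + k) = derivedSeries H 9 := by
    intro k
    induction k with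
    | zero => rfl
    | succ k ih => rw [← Nat.add_assoc, derivedSeries_succ, ih, ← derivedSeries_succ, he]
  refine derived_nine_ne_bot (le_bot_iff.mp ?_)
  rw [← hstab n, ← hn]
  exact derivedSeries_antitone H (by omega)

end Cfsg.Agent.Fi23Solvable
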