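import Cfsg.Agent.Lib.Fi23Solvable.CheckRows0
import Cfsg.Agent.Lib.Fi23Solvable.CheckRows1
import Cfsg.Agent.Lib.Fi23Solvable.CheckRows2
import Cfsg.Agent.Lib.Fi23Solvable.CheckRows3

/-!
# A maximal solvable subgroup of Fi23: every point passes the test
-/

set_option autoImplicit false
set_option linter.all false
set_option maxRecDepth 100000

noncomputable section

namespace Cfsg.Agent.Fi23Solvable

open Cfsg.Agent.CosetCert Cfsg.Agent.InvChar.Coset
open TreePerm Fi23G Fi23Out

theorem upto0 : ∀ c < 1600, rowOK c = true :=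
  scan_add 0 1600 (scan_zero rowOK) rows0

theorem upto1 : ∀ c < 3200, rowOK c = true :=
  scan_add 1600 1600 (upto0) rows1

theorem upto2 : ∀ c < 4800, rowOK c = true :=
  scan_add 3200 1600 (upto1) rows2

theorem upto3 : ∀ c < 6400, rowOK c = true :=
  scan_add 4800 1600 (upto2) rows3

theorem upto4 : ∀ c < 8000, rowOK c = true :=
  scan_add 6400 1600 (upto3) rows4

theorem upto5 : ∀ c < 9600, rowOK c = true :=
  scan_add 8000 1600 (upto4) rows5

theorem upto6 : ∀ c < 11200, rowOK c = true :=
  scan_add 9600 1600 (upto5) rows6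

theorem upto7 : ∀ c < 12800, rowOK c = true :=
  scan_add 11200 1600 (upto6) rows7

theorem upto8 : ∀ c < 14400, rowOK c = true :=
  scan_add 12800 1600 (upto7) rows8

theorem upto9 : ∀ c < 16000, rowOK c = true :=
  scan_add 14400 1600 (upto8) rows9

theorem upto10 : ∀ c < 17600, rowOK c = true :=
  scan_add 16000 1600 (upto9) rows10

theorem upto11 : ∀ c < 19200, rowOK c = true :=
  scan_add 17600 1600 (upto10) rows11

theorem upto12 : ∀ c < 20800, rowOK c = true :=
  scan_add 19200 1600 (upto11) rows12

theorem upto13 : ∀ c < 22400, rowOK c = true :=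
  scan_add 20800 1600 (upto12) rows13

theorem upto14 : ∀ c < 24000, rowOK c = true :=
  scan_add 22400 1600 (upto13) rows14

theorem upto15 : ∀ c < 25600, rowOK c = true :=
  scan_add 24000 1600 (upto14) rows15

theorem upto16 : ∀ c < 27200, rowOK c = true :=
  scan_add 25600 1600 (upto15) rows16

theorem upto17 : ∀ c < 28800, rowOK c = true :=
  scan_add 27200 1600 (upto16) rows17

theorem upto18 : ∀ c < 30400, rowOK c = true :=
  scan_add 28800 1600 (upto17) rows18

theorem rows_all : ∀ c < 31671, rowOK c = true :=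
  scan_add 30400 1271 (upto18) rows19

end Cfsg.Agent.Fi23Solvable
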