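import Cfsg.Agent.InvChar.Coset.Fi23OutCent
import Cfsg.Agent.Lib.Fi23Solvable.Rows
import Cfsg.Agent.Lib.Fi23Solvable.CheckKeep0
import Cfsg.Agent.Lib.Fi23Solvable.CheckKeep1
import Cfsg.Agent.Lib.Fi23Solvable.CheckChain

/-!
# A maximal solvable subgroup of Fi23: the stabiliser of the invariant set

The subgroup is the setwise stabiliser of 324 of the 31671 transpositions.
-/

set_option autoImplicit false
set_option linter.all false
set_option maxRecDepth 100000

noncomputable section

namespace Cfsg.Agent.Fi23Solvable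

open Cfsg.Agent.CosetCert Cfsg.Agent.InvChar.Coset
open TreePerm Fi23G Fi23Out

attribute [local irreducible] seqN rd

/-- The setwise stabiliser of the invariant set. -/
def H : Subgroup GG where
  carrier := {g | ∀ c : Fin 31671, inO (φ g c : ℕ) = inO (c : ℕ)}
  one_mem' := fun c => by rw [map_one]; rfl
  mul_mem' := fun {a b} ha hb c => by
    rw [map_mul, Equiv.Perm.mul_apply, ha, hb]
  inv_mem' := fun {a} ha c => by
    have h := ha (φ a⁻¹ c)
    rw [← Equiv.Perm.mul_apply, ← map_mul, mul_inv_cancel, map_one, Equiv.Perm.one_apply] at h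
    exact h.symm

theorem row_forest {c : ℕ} (hc : c < 31671) : forestOK c = true := by
  have h := rows_all c hc
  simp only [rowOK, Bool.and_eq_true] at h
  exact h.1

theorem row_five {c : ℕ} (hc : c < 31671) (h5 : predB c pat5 = true) : c ∈ reach 5 := by
  have h := rows_all c hc
  simp only [rowOK, h5, Bool.not_true, Bool.false_or, Bool.and_eq_true] at h
  exact memB_iff.mp h.2.2.1

theorem row_gen {c : ℕ} (hc : c < 31671) (hg : predB c patG = true) : c = ptG 0 := by
  have h := rows_all c hc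
  simp only [rowOK, hg, Bool.not_true, Bool.false_or, Bool.and_eq_true] at h
  exact Nat.eq_of_beq_eq_true h.2.2.2

theorem row_inO {c : ℕ} (hc : c < 31671) (h0 : inO c = true) : c ∈ listO ∧ chainOK c = true := by
  have h := rows_all c hc
  simp only [rowOK, h0, cond_true, Bool.and_eq_true] at h
  exact ⟨memB_iff.mp h.2.1.1, h.2.1.2⟩

theorem mem_listO {o : ℕ} (ho : o ∈ listO) : o < 31671 ∧ inO o = true := by
  have h := list_ok
  simp only [Bool.and_eq_true] at h
  have := allOK_iff.mp h.2 o ho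
  simpa [Bool.and_eq_true, Nat.blt_eq] using this

theorem letOK_iff : ∀ {w : List ℕ}, letOK w = true ↔ ∀ y ∈ w, y < 10 ∨ y = 17
  | [] => by simp [letOK]
  | y :: w => by simp [letOK, letOK_iff (w := w), Nat.blt_eq, Nat.beq_eq]

theorem letOK_reverse {w : List ℕ} (h : letOK w = true) : letOK w.reverse = true :=
  letOK_iff.mpr fun y hy => letOK_iff.mp h y (List.mem_reverse.mp hy)

theorem mem_of_keeps {w : List ℕ} (h : keepsO w = true) : letOK w = true ∧ gx w ∈ H := by
  simp only [keepsO, Bool.and_eq_true] at h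
  refine ⟨h.1, ?_⟩
  classical
  set S : Finset (Fin 31671) := Finset.univ.filter fun c : Fin 31671 => inO (c : ℕ) = true
  have himg : S.image (φ (gx w)) ⊆ S := by
    intro c hc
    simp only [S, Finset.mem_image, Finset.mem_filter, Finset.mem_univ, true_and] at hc ⊢
    obtain ⟨o, ho, rfl⟩ := hc
    rw [gx_apply h.1]
    exact allOK_iff.mp h.2 _ (row_inO o.2 ho).1
  have heq : S.image (φ (gx w)) = S :=
    Finset.eq_of_subset_of_card_le himg (le_of_eq (Finset.card_image_of_injective _ (φ (gx w)).injective).symm)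
  intro c
  rw [Bool.eq_iff_iff]
  constructor
  · intro hc
    have hm : φ (gx w) c ∈ S.image (φ (gx w)) := by rw [heq]; simp [S, hc]
    obtain ⟨o, ho, e⟩ := Finset.mem_image.mp hm
    rw [← (φ (gx w)).injective e]
    simpa [S] using ho
  · intro hc
    have hm : φ (gx w) c ∈ S := himg (Finset.mem_image.mpr ⟨c, by simp [S, hc], rfl⟩)
    simpa [S] using hm

theorem keep_mem {w : List ℕ} (hw : w ∈ keepW) : letOK w = true ∧ gx w ∈ H := by
  rw [← List.take_append_drop 15 keepW] at hw
  rcases List.mem_append.mp hw with h | h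
  · exact mem_of_keeps (allOK_iff.mp keep0 w h)
  · exact mem_of_keeps (allOK_iff.mp keep1 w h)

theorem nil_good : letOK [] = true ∧ gx [] ∈ H := ⟨rfl, by rw [gx_nil]; exact H.one_mem⟩

theorem getW_cases : ∀ (l : List (List ℕ)) (i : ℕ), getW l i = [] ∨ getW l i ∈ l
  | [], _ => Or.inl rfl
  | a :: _, 0 => Or.inr List.mem_cons_self
  | a :: l, i + 1 => (getW_cases l i).imp id (List.mem_cons_of_mem a)

theorem rootOf_lt : ∀ l, rootOf l < 31671
  | 0 => by decide
  | 1 => by decide
  | 2 => by decide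
  | _ + 3 => Nat.succ_pos _

/-- The root of a class. -/
def rootPt (l : ℕ) : Fin 31671 := ⟨rootOf l, rootOf_lt l⟩

theorem forest_reach : ∀ (k : ℕ) (c : Fin 31671), dep c = k → ∃ h ∈ H, φ h (rootPt (lab c)) = c := by
  intro k
  induction k with
  | zero =>
    intro c hk
    have h := row_forest c.2
    simp only [forestOK, hk, Bool.and_eq_true] at h
    refine ⟨1, H.one_mem, ?_⟩
    rw [map_one]
    exact Fin.ext (Nat.eq_of_beq_eq_true h.2)
  | succ k ih =>
    intro c hk
    have h := row_forest c.2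
    simp only [forestOK, hk, Bool.and_eq_true] at h
    obtain ⟨-, hlt, hd, hl, hp⟩ := h
    have hlt' : parOf c < 31671 := by simpa [Nat.blt_eq] using hlt
    obtain ⟨u, hu, e⟩ := ih ⟨parOf c, hlt'⟩ (Nat.eq_of_beq_eq_true hd)
    have hw : letOK (getW keepW (fgen c)) = true ∧ gx (getW keepW (fgen c)) ∈ H := by
      rcases getW_cases keepW (fgen c) with h0 | h0
      · rw [h0]; exact nil_good
      · exact keep_mem h0
    refine ⟨_ * u, H.mul_mem hw.2 hu, ?_⟩
    rw [map_mul, Equiv.Perm.mul_apply, ← Nat.eq_of_beq_eq_true hl, e]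
    exact Fin.ext (by rw [gx_apply hw.1]; exact Nat.eq_of_beq_eq_true hp)

theorem lab_lt (c : Fin 31671) : lab c < 3 := by
  have h := row_forest c.2
  simp only [forestOK, Bool.and_eq_true] at h
  simpa [Nat.blt_eq] using h.1

theorem inO_iff {c : ℕ} : inO c = true ↔ lab c = 0 := by simp [inO, Nat.beq_eq]

theorem rootPt_zero : rootPt 0 = base0 := rfl

theorem reach_O {c : Fin 31671} (hc : inO (c : ℕ) = true) : ∃ h ∈ H, φ h base0 = c := by
  obtain ⟨h, hh, e⟩ := forest_reach _ c rfl
  rw [inO_iff.mp hc, rootPt_zero] at e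
  exact ⟨h, hh, e⟩

theorem z_mem : z ∈ H := by
  have h := (keep_mem (w := [17]) (by decide +kernel)).2
  rwa [gx_cons, gx_nil, one_mul, lw, if_pos rfl] at h

theorem dd_mem {c : Fin 31671} (hc : inO (c : ℕ) = true) : dd c ∈ H := by
  obtain ⟨h, hh, rfl⟩ := reach_O hc
  rw [← conj_dd, dd_base]
  exact H.mul_mem (H.mul_mem hh z_mem) (H.inv_mem hh)

/-- The point of a path, and its transposition. -/
theorem pvalid_spec {e : List ℕ × ℕ} {f : ℕ} (h : pvalid e f = true) :
    letOK (dW e) = true ∧ ∃ hf : f < 31671, gx (dW e) = dd ⟨f, hf⟩ := by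
  obtain ⟨p, s⟩ := e
  simp only [pvalid, Bool.and_eq_true] at h
  obtain ⟨hp, hs, hf⟩ := h
  have hs' : s < 10 ∨ s = 17 := by simpa [seedOK, Nat.blt_eq, Nat.beq_eq] using hs
  have hpl : letOK p = true := letOK_small (smallOK_iff.mp hp)
  refine ⟨letOK_append (letOK_reverse hpl) (letOK_iff.mpr fun y hy => ?_), ?_⟩
  · rcases List.mem_cons.mp hy with rfl | hy
    · exact hs'
    · exact letOK_iff.mp hpl y hy
  obtain ⟨q, hq, hqv⟩ : ∃ q : Fin 31671, lw s = dd q ∧ (q : ℕ) = seedPt s := by
    rcases hs' with hs' | rfl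
    · refine ⟨cpt s, by rw [lw, if_neg (by omega), gen_dd hs'], ?_⟩
      have hne : Nat.beq s 17 = false := by rw [← Bool.not_eq_true, Nat.beq_eq]; omega
      rw [cpt_val hs', seedPt, hne]
      rfl
    · exact ⟨base0, by rw [lw, if_pos rfl, dd_base], rfl⟩
  have hfv : (φ (gx p) q : ℕ) = f := by
    rw [gx_apply hpl, hqv]
    exact Nat.eq_of_beq_eq_true hf
  refine ⟨hfv ▸ Fin.is_lt _, ?_⟩
  rw [show (⟨f, hfv ▸ Fin.is_lt _⟩ : Fin 31671) = φ (gx p) q from Fin.ext hfv.symm, ← conj_dd, ← hq, dW,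
    gx_append, gx_cons, gx_reverse]

theorem atom_good {w : List ℕ} (hw : w ∈ atomL) : letOK w = true ∧ gx w ∈ H := by
  simp only [atomL, List.mem_append, List.mem_map] at hw
  rcases hw with ⟨d, hd, rfl⟩ | hw | ⟨u, hu, rfl⟩
  · have h := allOK_iff.mp datoms_ok d hd
    simp only [Bool.and_eq_true] at h
    obtain ⟨h1, hf, e⟩ := pvalid_spec h.1
    exact ⟨h1, e ▸ dd_mem h.2⟩
  · exact keep_mem hw
  · exact ⟨letOK_reverse (keep_mem hu).1, by rw [gx_reverse]; exact H.inv_mem (keep_mem hu).2⟩

theorem elW_good : ∀ g : List ℕ, letOK (elW g) = true ∧ gx (elW g) ∈ H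
  | [] => nil_good
  | a :: l => by
    have ha : letOK (getW atomL a) = true ∧ gx (getW atomL a) ∈ H := by
      rcases getW_cases atomL a with h0 | h0
      · rw [h0]; exact nil_good
      · exact atom_good h0
    rw [elW, gx_append]
    exact ⟨letOK_append ha.1 (elW_good l).1, H.mul_mem (elW_good l).2 ha.2⟩

end Cfsg.Agent.Fi23Solvable
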