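import Cfsg.Agent.Lib.Fi23Solvable.Group

/-!
# A maximal solvable subgroup of Fi23: maximality
-/

set_option autoImplicit false
set_option linter.all false
set_option maxRecDepth 100000

noncomputable section

namespace Cfsg.Agent.Fi23Solvable

open Cfsg.Agent.CosetCert Cfsg.Agent.InvChar.Coset
open TreePerm Fi23G Fi23Out

attribute [local irreducible] seqN rd

theorem facts : pvalid e2 2 = true ∧ pvalid e5 5 = true ∧ lab 2 = 1 ∧ lab 5 = 2 ∧ lab wit2 < 2 ∧
    lab (seqN permList (dW e2) wit2) = 2 ∧ (lab wit5 = 0 ∨ lab wit5 = 2) ∧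
    lab (seqN permList (dW e5) wit5) = 1 ∧ inO wit0 = true ∧ inO (seqN permList (dW e2) wit0) = false := by
  have h := witnesses
  simp only [Bool.and_eq_true, Bool.or_eq_true, Bool.not_eq_true', Nat.beq_eq, Nat.blt_eq] at h
  exact h

theorem H_ne_top : H ≠ ⊤ := by
  intro h
  obtain ⟨h2, -, -, -, -, -, -, -, hi, ho⟩ := facts
  obtain ⟨hl, hlt, hd⟩ := pvalid_spec h2
  have hw : wit0 < 31671 := by decide +kernel
  have := (h ▸ Subgroup.mem_top (dd ⟨2, hlt⟩) : dd ⟨2, hlt⟩ ∈ H) ⟨wit0, hw⟩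
  rw [← hd, gx_apply hl, ho, hi] at this
  exact Bool.noConfusion this

theorem coatom : IsCoatom H := by
  refine ⟨H_ne_top, fun M hM => ?_⟩
  obtain ⟨hle, g, hgM, hgH⟩ := SetLike.lt_iff_le_and_exists.mp hM
  obtain ⟨h2, h5, hl2, hl5, hw2, hm2, hw5, hm5, -, -⟩ := facts
  obtain ⟨hl2', hlt2, hd2⟩ := pvalid_spec h2
  obtain ⟨hl5', hlt5, hd5⟩ := pvalid_spec h5
  have move : ∀ x : Fin 31671, dd x ∈ M → ∀ h ∈ M, dd (φ h x) ∈ M := fun x hx h hh => by
    rw [← conj_dd]; exact M.mul_mem (M.mul_mem hh hx) (M.inv_mem hh)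
  -- a class lies in the set as soon as one of its points does
  have cls : ∀ (a c : Fin 31671), dd a ∈ M → lab (a : ℕ) = lab (c : ℕ) → dd c ∈ M := fun a c ha hl => by
    obtain ⟨u, hu, ea⟩ := forest_reach _ a rfl
    obtain ⟨w, hw, ec⟩ := forest_reach _ c rfl
    rw [← ec, ← hl]
    refine move _ ?_ _ (hle hw)
    have := move a ha u⁻¹ (M.inv_mem (hle hu))
    have e : φ u⁻¹ a = rootPt (lab (a : ℕ)) := by
      rw [map_inv, Equiv.Perm.inv_eq_iff_eq]; exact ea.symm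
    rwa [e] at this
  have hO : ∀ c : Fin 31671, lab (c : ℕ) = 0 → dd c ∈ M := fun c hc => hle (dd_mem (inO_iff.mpr hc))
  have ext : ∃ y : Fin 31671, dd y ∈ M ∧ lab (y : ℕ) ≠ 0 := by
    by_contra hcon
    push Not at hcon
    have himp : ∀ c : Fin 31671, ∀ u ∈ M, inO (c : ℕ) = true → inO (φ u c : ℕ) = true := fun c u hu hc =>
      inO_iff.mpr (hcon _ (move c (hO c (inO_iff.mp hc)) u hu))
    refine hgH fun c => ?_
    rw [Bool.eq_iff_iff]
    refine ⟨fun h => ?_, himp c g hgM⟩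
    have := himp _ g⁻¹ (M.inv_mem hgM) h
    rwa [← Equiv.Perm.mul_apply, ← map_mul, inv_mul_cancel, map_one, Equiv.Perm.one_apply] at this
  obtain ⟨y, hy, hy0⟩ := ext
  have hy3 := lab_lt y
  -- the transpositions of the second and third roots exchange the classes
  have w2 : wit2 < 31671 := by decide +kernel
  have w5 : wit5 < 31671 := by decide +kernel
  have step2 : dd ⟨2, hlt2⟩ ∈ M → dd ⟨5, hlt5⟩ ∈ M := fun hx => by
    have hwm : dd ⟨wit2, w2⟩ ∈ M := by
      have h01 : lab wit2 = 0 ∨ lab wit2 = 1 := by omega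
      rcases h01 with h0 | h1
      · exact hO _ h0
      · exact cls ⟨2, hlt2⟩ _ hx (hl2.trans h1.symm)
    refine cls _ _ (move _ hwm _ hx) ?_
    rw [← hd2, gx_apply hl2']
    exact hm2.trans hl5.symm
  have step5 : dd ⟨5, hlt5⟩ ∈ M → dd ⟨2, hlt2⟩ ∈ M := fun hx => by
    have hwm : dd ⟨wit5, w5⟩ ∈ M := by
      rcases hw5 with h0 | h1
      · exact hO _ h0
      · exact cls ⟨5, hlt5⟩ _ hx (hl5.trans h1.symm)
    refine cls _ _ (move _ hwm _ hx) ?_
    rw [← hd5, gx_apply hl5']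
    exact hm5.trans hl2.symm
  have both : dd ⟨2, hlt2⟩ ∈ M ∧ dd ⟨5, hlt5⟩ ∈ M := by
    have h12 : lab (y : ℕ) = 1 ∨ lab (y : ℕ) = 2 := by omega
    rcases h12 with h1 | h1
    · have := cls y ⟨2, hlt2⟩ hy (h1.trans hl2.symm)
      exact ⟨this, step2 this⟩
    · have := cls y ⟨5, hlt5⟩ hy (h1.trans hl5.symm)
      exact ⟨step5 this, this⟩
  have all : ∀ c : Fin 31671, dd c ∈ M := fun c => by
    have hc3 := lab_lt c
    have h012 : lab (c : ℕ) = 0 ∨ lab (c : ℕ) = 1 ∨ lab (c : ℕ) = 2 := by omega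
    rcases h012 with h | h | h
    exacts [hO c h, cls _ c both.1 (hl2.trans h.symm), cls _ c both.2 (hl5.trans h.symm)]
  rw [eq_top_iff, ← data.gen_top, Subgroup.closure_le]
  rintro x ⟨k, hk, rfl⟩
  have hk' : k < 10 := K_eq ▸ hk
  rw [gen_dd hk']
  exact all _

end Cfsg.Agent.Fi23Solvable
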