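import Cfsg.Agent.Lib.Fi23Solvable.Group
import Cfsg.Agent.Lib.Characters.Burnside

/-!
# A maximal solvable subgroup of Fi23: its order

A chain of stabilisers with orbit lengths 324, 27, 288, 18, 8, 9 ending in the trivial group.
-/

set_option autoImplicit false
set_option linter.all false
set_option maxRecDepth 100000

noncomputable section

namespace Cfsg.Agent.Fi23Solvable

open Cfsg.Agent.CosetCert Cfsg.Agent.InvChar.Coset
open TreePerm Fi23G Fi23Out

attribute [local irreducible] seqN rd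

theorem predsOK_mem : ∀ {l : List ((List ℕ × ℕ) × ℕ × Bool)}, predsOK l = true →
    ∀ e ∈ l, pvalid e.1 e.2.1 = true
  | [], _, e, he => by simp at he
  | a :: l, h, e, he => by
    simp only [predsOK, Bool.and_eq_true] at h
    rcases List.mem_cons.mp he with rfl | he
    · exact h.1
    · exact predsOK_mem h.2 e he

theorem fixB_dW {e : List ℕ × ℕ} {f : Fin 31671} (h : pvalid e f = true) (c : Fin 31671) :
    fixB (dW e) c = true ↔ Commute (dd f) (dd c) := by
  obtain ⟨h1, hf, hd⟩ := pvalid_spec h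
  rw [commute_dd_iff, show f = ⟨f, hf⟩ from rfl, ← hd, Fin.ext_iff, gx_apply h1, fixB, Nat.beq_eq]

theorem predB_move {v : GG} : ∀ (l : List ((List ℕ × ℕ) × ℕ × Bool)), predsOK l = true →
    FixL v (predPts l) → ∀ c : Fin 31671, predB (φ v c : ℕ) l = predB (c : ℕ) l
  | [], _, _, c => rfl
  | e :: l, h, hf, c => by
    simp only [predsOK, Bool.and_eq_true] at h
    have hf' : FixL v (predPts l) := fun x hx => hf x (List.mem_cons_of_mem _ hx)
    obtain ⟨hlt, hfix⟩ := hf e.2.1 List.mem_cons_self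
    have hfb : fixB (dW e.1) (φ v c : ℕ) = fixB (dW e.1) (c : ℕ) := by
      rw [Bool.eq_iff_iff, fixB_dW (f := ⟨e.2.1, hlt⟩) h.1, fixB_dW (f := ⟨e.2.1, hlt⟩) h.1]
      conv_lhs => rw [← hfix]
      exact commute_dd_move v _ _
    simp only [predB, hfb, predB_move l h.2 hf' c]

theorem neB_move {v : GG} : ∀ (l : List ℕ), FixL v l → ∀ c : Fin 31671, neB (φ v c : ℕ) l = neB (c : ℕ) l
  | [], _, c => rfl
  | b :: l, hf, c => by
    have hf' : FixL v l := fun x hx => hf x (List.mem_cons_of_mem _ hx)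
    obtain ⟨hlt, hfix⟩ := hf b List.mem_cons_self
    have hb : Nat.beq (φ v c : ℕ) b = Nat.beq (c : ℕ) b := by
      rw [Bool.eq_iff_iff, Nat.beq_eq, Nat.beq_eq]
      constructor
      · intro h
        have : φ v c = φ v ⟨b, hlt⟩ := by rw [hfix]; exact Fin.ext h
        exact congrArg Fin.val ((φ v).injective this)
      · intro h
        rw [show c = ⟨b, hlt⟩ from Fin.ext h, hfix]
    simp only [neB, hb, neB_move l hf' c]

/-- Closing up: the fixed set grows. -/
theorem closeS_spec {v : GG} {fin : List ℕ → Bool} :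
    ∀ (l : List ((List ℕ × ℕ) × ℕ × ℕ × ℕ)) (known : List ℕ), closeS l known fin = true → FixL v known →
      ∃ known', fin known' = true ∧ FixL v known' ∧ FixL v (l.map fun e => e.2.2.2)
  | [], known, h, hk => ⟨known, h, hk, fun x hx => by simp at hx⟩
  | e :: l, known, h, hk => by
    simp only [closeS, Bool.and_eq_true] at h
    obtain ⟨hv, hf, hx, hy, hrest⟩ := h
    obtain ⟨h1, hlt, hd⟩ := pvalid_spec hv
    obtain ⟨hf', hfix⟩ := hk _ (memB_iff.mp hf)
    obtain ⟨hx', hxfix⟩ := hk _ (memB_iff.mp hx)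
    have hc : Commute v (dd ⟨e.2.1, hlt⟩) := commute_dd_iff.mpr hfix
    have hyv : (φ (gx (dW e.1)) ⟨e.2.2.1, hx'⟩ : ℕ) = e.2.2.2 := by
      rw [gx_apply h1]; exact Nat.eq_of_beq_eq_true hy
    have hnew : ∃ hy' : e.2.2.2 < 31671, φ v ⟨e.2.2.2, hy'⟩ = ⟨e.2.2.2, hy'⟩ := by
      refine ⟨hyv ▸ Fin.is_lt _, ?_⟩
      rw [show (⟨e.2.2.2, hyv ▸ Fin.is_lt _⟩ : Fin 31671) = φ (gx (dW e.1)) ⟨e.2.2.1, hx'⟩ from Fin.ext hyv.symm,
        hd, ← Equiv.Perm.mul_apply, ← map_mul, hc.eq, map_mul, Equiv.Perm.mul_apply, hxfix]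
    obtain ⟨k', h1', h2', h3'⟩ := closeS_spec l (e.2.2.2 :: known) hrest (fun x hx => by
      rcases List.mem_cons.mp hx with rfl | hx
      exacts [hnew, hk x hx])
    refine ⟨k', h1', h2', fun x hx => ?_⟩
    rcases List.mem_cons.mp (List.map_cons .. ▸ hx) with rfl | hx
    exacts [hnew, h3' x hx]

theorem fin_sub {v : GG} {l k : List ℕ} (h : subB l k = true) (hk : FixL v k) : FixL v l :=
  fun x hx => hk x (memB_iff.mp (allOK_iff.mp h x hx))

theorem preds_all : predsOK pat1 = true ∧ predsOK pat2 = true ∧ predsOK pat3 = true ∧ predsOK pat4 = true ∧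
    predsOK pat5 = true ∧ predsOK patP = true ∧ predsOK patG = true := by
  simpa [Bool.and_eq_true] using preds_ok

theorem lpred_move {v : GG} (hH : v ∈ H) (c : Fin 31671) :
    ∀ s, 1 ≤ s → s ≤ 5 → FixL v (prior s) → lpred s (φ v c : ℕ) = lpred s (c : ℕ)
  | 0, h, _, _ => absurd h (by omega)
  | 1, _, _, hf => by
    simp only [lpred, hH c, neB_move [0] hf, predB_move pat1 preds_all.1 hf]
  | 2, _, _, hf => by
    simp only [lpred, hH c, neB_move [0, 1440] hf, predB_move pat2 preds_all.2.1 hf]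
  | 3, _, _, hf => by
    simp only [lpred, hH c, neB_move [0, 1440, 558] hf, predB_move pat3 preds_all.2.2.1 hf]
  | 4, _, _, hf => by
    simp only [lpred, hH c, neB_move [0, 1440, 558, 1559] hf, predB_move pat4 preds_all.2.2.2.1 hf]
  | 5, _, _, hf => by
    obtain ⟨k, hfin, hk, -⟩ := closeS_spec steps5 _ close_five hf
    simp only [lpred, predB_move pat5 preds_all.2.2.2.2.1 (fin_sub hfin hk)]
  | n + 6, _, h, _ => absurd h (by omega)

theorem base_lt : ∀ x ∈ baseL, x < 31671 := by decide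

/-- Only the identity of the subgroup fixes the base. -/
theorem eq_one_of_fix_base {v : GG} (hH : v ∈ H) (hf : FixL v baseL) : v = 1 := by
  obtain ⟨-, -, -, hp, -, hP, hG⟩ := preds_all
  have hs := pick_self
  simp only [Bool.and_eq_true] at hs
  obtain ⟨kA, hfinA, hkA, hysA⟩ := closeS_spec stepsA _ close_A hf
  have h5259 : (5259 : ℕ) < 31671 := by norm_num
  have h1 : φ v ⟨5259, h5259⟩ = ⟨5259, h5259⟩ := by
    refine Fin.ext ?_
    have e1 : inO (φ v ⟨5259, h5259⟩ : ℕ) = true := (hH _).trans hs.1.1.1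
    have e2 : predB (φ v ⟨5259, h5259⟩ : ℕ) patP = true :=
      (predB_move patP hP (fin_sub hfinA hkA) _).trans hs.1.1.2
    have := allOK_iff.mp pick_ok _ (row_inO (Fin.is_lt _) e1).1
    simp only [e2, Bool.not_true, Bool.false_or] at this
    exact Nat.eq_of_beq_eq_true this
  have hB : FixL v knownB := fun x hx => by
    simp only [knownB, List.mem_append, List.mem_cons] at hx
    rcases hx with hx | rfl | hx
    exacts [hysA x hx, ⟨h5259, h1⟩, hf x hx]
  obtain ⟨kB, hfinB, hkB, hysB⟩ := closeS_spec stepsB _ close_B hB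
  have h2 : φ v (cpt 0) = cpt 0 := by
    refine Fin.ext ?_
    rw [cpt_val (by norm_num)]
    refine row_gen (Fin.is_lt _) ?_
    rw [predB_move patG hG (fin_sub hfinB hkB), cpt_val (k := 0) (by norm_num)]
    exact hs.1.2
  have hC : FixL v knownC := fun x hx => by
    simp only [knownC, List.mem_append, List.mem_cons] at hx
    rcases hx with hx | rfl | hx
    · exact hysB x hx
    · refine ⟨ptG_lt (by norm_num), ?_⟩
      rw [show (⟨ptG 0, ptG_lt (by norm_num)⟩ : Fin 31671) = cpt 0 from Fin.ext (cpt_val (k := 0) (by norm_num)).symm]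
      exact h2
    · exact hB x hx
  obtain ⟨kC, hfinC, hkC, -⟩ := closeS_spec stepsC _ close_C hC
  refine eq_one_of_fix fun k hk => fixL_point (fin_sub hfinC hkC) ?_
  rw [cpt_val hk]
  interval_cases k <;> simp [genPoints]

/-- The elements fixing the listed points. -/
def fixS (l : List ℕ) : Subgroup GG where
  carrier := {v | ∀ c : Fin 31671, (c : ℕ) ∈ l → φ v c = c}
  one_mem' := fun c _ => by rw [map_one]; rfl
  mul_mem' := fun {a b} ha hb c hc => by rw [map_mul, Equiv.Perm.mul_apply, hb c hc, ha c hc]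
  inv_mem' := fun {a} ha c hc => by rw [map_inv, Equiv.Perm.inv_eq_iff_eq, ha c hc]

theorem fixL_of_fixS {v : GG} {l : List ℕ} (h : v ∈ fixS l) (hl : ∀ x ∈ l, x < 31671) : FixL v l :=
  fun x hx => ⟨hl x hx, h ⟨x, hl x hx⟩ hx⟩

theorem nodupB_spec : ∀ {l : List ℕ}, nodupB l = true → l.Nodup
  | [], _ => List.nodup_nil
  | x :: l, h => by
    simp only [nodupB, Bool.and_eq_true, Bool.not_eq_true', ← Bool.not_eq_true, memB_iff] at h
    exact List.nodup_cons.mpr ⟨h.1, nodupB_spec h.2⟩

/-- The length of an orbit times the order of a point stabiliser. -/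
theorem orbit_card (K : Subgroup GG) (b : Fin 31671) (R : List ℕ) (hn : R.Nodup) (hlt : ∀ x ∈ R, x < 31671)
    (hR : ∀ c : Fin 31671, (c : ℕ) ∈ R ↔ ∃ v ∈ K, φ v b = c) :
    Nat.card K = R.length * Nat.card (K ⊓ fixS [(b : ℕ)] : Subgroup GG) := by
  classical
  letI : MulAction K (Fin 31671) := MulAction.compHom _ (φ.comp K.subtype)
  haveI : Fintype K := Fintype.ofFinite _
  have h := MulAction.card_orbit_mul_card_stabilizer_eq_card_group K b
  rw [← Nat.card_eq_fintype_card, ← Nat.card_eq_fintype_card, ← Nat.card_eq_fintype_card] at h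
  rw [← h]
  congr 1
  · rw [← List.toFinset_card_of_nodup hn, ← Set.ncard_coe_finset, Nat.card_coe_set_eq,
      ← Set.ncard_image_of_injective _ Fin.val_injective]
    congr 1
    ext x
    simp only [List.coe_toFinset, Set.mem_setOf_eq, Set.mem_image, MulAction.mem_orbit_iff]
    constructor
    · rintro ⟨c, ⟨v, hv⟩, rfl⟩
      exact (hR c).mpr ⟨v, v.2, hv⟩
    · intro hx
      obtain ⟨v, hv, e⟩ := (hR ⟨x, hlt x hx⟩).mp hx
      exact ⟨⟨x, hlt x hx⟩, ⟨⟨v, hv⟩, e⟩, rfl⟩
  · exact Nat.card_congr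
      { toFun := fun v => ⟨v.1.1, v.1.2, fun c hc => by
          rw [List.mem_singleton] at hc
          rw [show c = b from Fin.ext hc]
          exact v.2⟩
        invFun := fun v => ⟨⟨v.1, v.2.1⟩, v.2.2 b (List.mem_singleton.mpr rfl)⟩
        left_inv := fun v => rfl
        right_inv := fun v => rfl }

/-- A stabiliser in the chain. -/
def lev (s : ℕ) : Subgroup GG := H ⊓ fixS (prior s)

theorem treeB_spec {K : Subgroup GG} {b : Fin 31671} (gs : List (List ℕ))
    (hg : ∀ i, gx (elW (getW gs i)) ∈ K) :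
    ∀ (l : List (ℕ × ℕ × ℕ)) (known : List ℕ), treeB gs l known = true →
      (∀ x ∈ known, ∃ v ∈ K, (φ v b : ℕ) = x) → ∀ x ∈ l.map Prod.fst, ∃ v ∈ K, (φ v b : ℕ) = x
  | [], known, _, _ => fun x hx => by simp at hx
  | e :: l, known, h, hk => by
    simp only [treeB, Bool.and_eq_true] at h
    obtain ⟨hp, he, hrest⟩ := h
    obtain ⟨v, hv, hval⟩ := hk _ (memB_iff.mp hp)
    have hnew : ∃ u ∈ K, (φ u b : ℕ) = e.1 := by
      refine ⟨_ * v, K.mul_mem (hg e.2.2) hv, ?_⟩
      rw [map_mul, Equiv.Perm.mul_apply, gx_apply (elW_good _).1, hval]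
      exact Nat.eq_of_beq_eq_true he
    intro x hx
    rcases List.mem_cons.mp (List.map_cons .. ▸ hx) with rfl | hx
    · exact hnew
    · refine treeB_spec gs hg l (e.1 :: known) hrest (fun y hy => ?_) x hx
      rcases List.mem_cons.mp hy with rfl | hy
      exacts [hnew, hk y hy]

theorem level_card (s : ℕ) (h1 : 1 ≤ s) (h5 : s ≤ 5) (hok : levelOK s = true) (hb : baseAt s < 31671)
    (hlt : ∀ x ∈ prior s, x < 31671)
    (hscan : ∀ c : Fin 31671, lpred s (c : ℕ) = true → (c : ℕ) ∈ reach s) :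
    Nat.card (lev s) = (reach s).length * Nat.card (lev s ⊓ fixS [baseAt s] : Subgroup GG) := by
  simp only [levelOK, Bool.and_eq_true] at hok
  obtain ⟨hg, ht, hn, hbase⟩ := hok
  have hgen : ∀ i, gx (elW (getW (levGens s) i)) ∈ lev s := by
    intro i
    refine Subgroup.mem_inf.mpr ⟨(elW_good _).2, fun c hc => Fin.ext ?_⟩
    rw [gx_apply (elW_good _).1]
    rcases getW_cases (levGens s) i with h0 | h0
    · rw [h0, elW, seqN_nil]
    · exact Nat.eq_of_beq_eq_true (allOK_iff.mp (allOK_iff.mp hg _ h0) _ hc)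
  have hreach : ∀ x ∈ reach s, ∃ v ∈ lev s, (φ v ⟨baseAt s, hb⟩ : ℕ) = x := by
    intro x hx
    rcases List.mem_cons.mp hx with rfl | hx
    · exact ⟨1, (lev s).one_mem, by rw [map_one]; rfl⟩
    · refine treeB_spec (levGens s) hgen _ _ ht (fun y hy => ?_) x hx
      rw [List.mem_singleton] at hy
      exact ⟨1, (lev s).one_mem, by rw [map_one, hy]; rfl⟩
  refine orbit_card (lev s) ⟨baseAt s, hb⟩ (reach s) (nodupB_spec hn) (fun x hx => ?_) fun c => ?_
  · obtain ⟨v, -, rfl⟩ := hreach x hx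
    exact Fin.is_lt _
  · constructor
    · intro hc
      obtain ⟨v, hv, e⟩ := hreach _ hc
      exact ⟨v, hv, Fin.ext e⟩
    · rintro ⟨v, hv, rfl⟩
      refine hscan _ ?_
      rw [lpred_move (Subgroup.mem_inf.mp hv).1 _ s h1 h5 (fixL_of_fixS (Subgroup.mem_inf.mp hv).2 hlt)]
      exact hbase

theorem lev_step {s : ℕ} {l : List ℕ} (h : ∀ x, x ∈ l ↔ x ∈ prior s ∨ x = baseAt s) :
    lev s ⊓ fixS [baseAt s] = H ⊓ fixS l := by
  ext v
  simp only [lev, Subgroup.mem_inf]
  constructor
  · rintro ⟨⟨hH, h1⟩, h2⟩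
    exact ⟨hH, fun c hc => ((h _).mp hc).elim (h1 c) fun e => h2 c (List.mem_singleton.mpr e)⟩
  · rintro ⟨hH, h3⟩
    exact ⟨⟨hH, fun c hc => h3 c ((h _).mpr (Or.inl hc))⟩,
      fun c hc => h3 c ((h _).mpr (Or.inr (List.mem_singleton.mp hc)))⟩

theorem chain_row {c : Fin 31671} {s : ℕ} (hs : s = 1 ∨ s = 2 ∨ s = 3 ∨ s = 4)
    (h : lpred s (c : ℕ) = true) : (c : ℕ) ∈ reach s := by
  have h0 : inO (c : ℕ) = true := by
    rcases hs with rfl | rfl | rfl | rfl <;>
      (simp only [lpred, Bool.and_eq_true] at h; exact h.1)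
  have hc := (row_inO c.2 h0).2
  simp only [chainOK, Bool.and_eq_true, Bool.or_eq_true, Bool.not_eq_true'] at hc
  obtain ⟨c1, c2, c3, c4⟩ := hc
  rcases hs with rfl | rfl | rfl | rfl
  exacts [memB_iff.mp (c1.resolve_left (by simp [h])), memB_iff.mp (c2.resolve_left (by simp [h])),
    memB_iff.mp (c3.resolve_left (by simp [h])), memB_iff.mp (c4.resolve_left (by simp [h]))]

theorem card_zero : Nat.card H = 324 * Nat.card (lev 1) := by
  have e0 : lev 0 = H := by
    rw [lev, inf_eq_left]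
    intro v _ c hc
    simp [prior] at hc
  have hl := list_ok
  simp only [Bool.and_eq_true] at hl
  have h := orbit_card H base0 listO (nodupB_spec hl.1) (fun x hx => (mem_listO hx).1) fun c => by
    constructor
    · exact fun hc => reach_O (mem_listO hc).2
    · rintro ⟨v, hv, rfl⟩
      exact (row_inO (Fin.is_lt _) ((hv base0).trans (by decide +kernel))).1
  rw [list_length] at h
  rw [h]
  congr 2

theorem card_H : Nat.card H = 2 ^ 11 * 3 ^ 13 := by
  obtain ⟨n1, n2, n3, n4, n5⟩ := reach_length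
  have c1 := level_card 1 (by norm_num) (by norm_num) level1 (by decide +kernel) (by decide)
    fun c h => chain_row (Or.inl rfl) h
  have c2 := level_card 2 (by norm_num) (by norm_num) level2 (by decide +kernel) (by decide)
    fun c h => chain_row (Or.inr (Or.inl rfl)) h
  have c3 := level_card 3 (by norm_num) (by norm_num) level3 (by decide +kernel) (by decide)
    fun c h => chain_row (Or.inr (Or.inr (Or.inl rfl))) h
  have c4 := level_card 4 (by norm_num) (by norm_num) level4 (by decide +kernel) (by decide)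
    fun c h => chain_row (Or.inr (Or.inr (Or.inr rfl))) h
  have c5 := level_card 5 (by norm_num) (by norm_num) level5 (by decide +kernel) (by decide)
    fun c h => row_five c.2 h
  rw [n1, lev_step (l := prior 2) (by simp [prior, show baseAt 1 = 1440 from rfl])] at c1
  rw [n2, lev_step (l := prior 3) (by simp [prior, show baseAt 0 = 0 from rfl, show baseAt 1 = 1440 from rfl, show baseAt 2 = 558 from rfl, show baseAt 3 = 1559 from rfl, show baseAt 4 = 1 from rfl, show baseAt 5 = 884 from rfl, baseL, or_assoc])] at c2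
  rw [n3, lev_step (l := prior 4) (by simp [prior, show baseAt 0 = 0 from rfl, show baseAt 1 = 1440 from rfl, show baseAt 2 = 558 from rfl, show baseAt 3 = 1559 from rfl, show baseAt 4 = 1 from rfl, show baseAt 5 = 884 from rfl, baseL, or_assoc])] at c3
  rw [n4, lev_step (l := prior 5) (by simp [prior, show baseAt 0 = 0 from rfl, show baseAt 1 = 1440 from rfl, show baseAt 2 = 558 from rfl, show baseAt 3 = 1559 from rfl, show baseAt 4 = 1 from rfl, show baseAt 5 = 884 from rfl, baseL, or_assoc])] at c4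
  rw [n5, lev_step (l := baseL) (by simp [prior, show baseAt 0 = 0 from rfl, show baseAt 1 = 1440 from rfl, show baseAt 2 = 558 from rfl, show baseAt 3 = 1559 from rfl, show baseAt 4 = 1 from rfl, show baseAt 5 = 884 from rfl, baseL, or_assoc])] at c5
  have hbot : H ⊓ fixS baseL = ⊥ := by
    rw [eq_bot_iff]
    intro v hv
    rw [Subgroup.mem_bot]
    exact eq_one_of_fix_base (Subgroup.mem_inf.mp hv).1 (fixL_of_fixS (Subgroup.mem_inf.mp hv).2 base_lt)
  rw [hbot, Subgroup.card_bot] at c5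
  change Nat.card (lev 1) = 27 * Nat.card (lev 2) at c1
  change Nat.card (lev 2) = 288 * Nat.card (lev 3) at c2
  change Nat.card (lev 3) = 18 * Nat.card (lev 4) at c3
  change Nat.card (lev 4) = 8 * Nat.card (lev 5) at c4
  rw [card_zero, c1, c2, c3, c4, c5]
  norm_num

theorem solvable_H : Group.IsSolvable H :=
  Cfsg.Agent.Characters.burnside_pa_qb Nat.prime_two Nat.prime_three card_H

end Cfsg.Agent.Fi23Solvable
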